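import Groth.Agent.Lib.SiteCoh.ExtAdj
import Mathlib.CategoryTheory.Abelian.Injective.Basic

/-!
# Natural endomorphisms of exact functors commute with the induced maps on `Ext`
-/

set_option autoImplicit false

universe w w' v v' u u'

open CategoryTheory CategoryTheory.Limits Abelian

namespace Groth.Agent.FormalRqH7

variable {A : Type u} [Category.{v} A] [Abelian A] [HasExt.{w} A] [EnoughInjectives A]
  {B : Type u'} [Category.{v'} B] [Abelian B] [HasExt.{w'} B]
  {R : A ⥤ B} [R.Additive] [PreservesFiniteLimits R] [PreservesFiniteColimits R] (ν : R ⟶ R)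

/-- The map induced on `Ext` by an exact functor commutes with a natural endomorphism of the functor. -/
theorem mapExactFunctor_comm : ∀ (n : ℕ) {P Y : A} (x : Ext P Y n),
    (Ext.mk₀ (ν.app P)).comp (x.mapExactFunctor R) (zero_add n) =
      (x.mapExactFunctor R).comp (Ext.mk₀ (ν.app Y)) (add_zero n)
  | 0, P, Y, x => by
    obtain ⟨φ, rfl⟩ := (Ext.mk₀_bijective _ _).2 x
    rw [Ext.mapExactFunctor_mk₀, Ext.mk₀_comp_mk₀, Ext.mk₀_comp_mk₀, ν.naturality]
  | n + 1, P, Y, x => by
    obtain ⟨I, Q, i, p, w, hI, hS⟩ := SiteCoh.exists_inj_seq Y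
    obtain ⟨y, rfl⟩ := Ext.covariant_sequence_exact₁ _ hS x (Ext.eq_zero_of_injective _) (n₀ := n) rfl
    rw [Ext.mapExactFunctor_comp, Ext.mapExactFunctor_extClass]
    let f : (ShortComplex.mk i p w).map R ⟶ (ShortComplex.mk i p w).map R :=
      { τ₁ := ν.app Y
        τ₂ := ν.app I
        τ₃ := ν.app Q
        comm₁₂ := (ν.naturality i).symm
        comm₂₃ := (ν.naturality p).symm }
    have h1 : (hS.map_of_exact R).extClass.comp (Ext.mk₀ (ν.app Y)) (add_zero 1) =
        (Ext.mk₀ (ν.app Q)).comp (hS.map_of_exact R).extClass (zero_add 1) :=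
      ShortComplex.ShortExact.extClass_naturality (hS.map_of_exact R) (hS.map_of_exact R) f
    refine (Ext.comp_assoc _ _ _ (zero_add n) rfl (by lia)).symm.trans ?_
    rw [mapExactFunctor_comm n y]
    refine (Ext.comp_assoc _ _ _ (add_zero n) (zero_add 1) (by lia)).trans ?_
    refine Eq.trans ?_ (Ext.comp_assoc _ _ _ rfl (add_zero 1) (by lia)).symm
    exact congrArg (fun q => (y.mapExactFunctor R).comp q rfl) h1.symm

/-- A natural endomorphism computed on a universal element is the one on the comparison of classes. -/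
theorem extCompHom_pre {P : B} {P' : A} (η : P ⟶ R.obj P') (s : P' ⟶ P') (hs : η ≫ R.map s = η ≫ ν.app P')
    {Y : A} {n : ℕ} (x : Ext P' Y n) :
    SiteCoh.extCompHom η Y n ((Ext.mk₀ s).comp x (zero_add n)) =
      (SiteCoh.extCompHom η Y n x).comp (Ext.mk₀ (ν.app Y)) (add_zero n) := by
  show (Ext.mk₀ η).comp (((Ext.mk₀ s).comp x (zero_add n)).mapExactFunctor R) (zero_add n) =
    ((Ext.mk₀ η).comp (x.mapExactFunctor R) (zero_add n)).comp (Ext.mk₀ (ν.app Y)) (add_zero n)
  rw [Ext.mapExactFunctor_comp, Ext.mapExactFunctor_mk₀, Ext.mk₀_comp_mk₀_assoc, hs, ← Ext.mk₀_comp_mk₀_assoc,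
    mapExactFunctor_comm]
  exact (Ext.comp_assoc _ _ _ (zero_add n) (add_zero n) (by lia)).symm

end Groth.Agent.FormalRqH7
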