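import Groth.Agent.Lib.FormalRqH7.ExtNat
import Groth.Agent.Lib.ProperFormalH7.ExtSect
import Groth.Agent.Lib.CohFound.HHBridge
import Groth.Agent.Lib.CohFound.ModFlasque
import Groth.Agent.Lib.ModM1.Stalk
import Groth.Agent.Lib.ModM1.Coh
import Groth.Prelude.Def_Coh

/-!
# Classes on an open subscheme are cohomology of the open subscheme, naturally and linearly
-/

set_option autoImplicit false
set_option linter.style.haveILetI false
set_option linter.unusedSectionVars false
set_option backward.isDefEq.respectTransparency false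
set_option backward.isDefEq.respectTransparency.types false
set_option maxHeartbeats 1000000
set_option synthInstance.maxHeartbeats 400000
universe u

open CategoryTheory CategoryTheory.Limits AlgebraicGeometry Opposite TopologicalSpace Abelian

noncomputable section

namespace Groth.Agent.FormalRqH7

open ProperFormalH7 CohFound

variable {X : Scheme.{u}} (V : X.Opens)

/-- The underlying abelian sheaf of the restriction to an open subscheme. -/
abbrev resAb : ModSite.Mod X.sheaf ⥤ CohTop.Ab (sp (V : Scheme.{u})) :=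
  (Scheme.Modules.restrictFunctor V.ι ⋙ SheafOfModules.toSheaf (V : Scheme.{u}).ringCatSheaf : X.Modules ⥤ _)

instance resAb_additive : (resAb V).Additive where
  map_add {_ _ _ _} := rfl

theorem shortExact_resAb {S : ShortComplex (ModSite.Mod X.sheaf)} (hS : S.ShortExact) : (S.map (resAb V)).ShortExact :=
  shortExact_resEmb (isOpenEmbedding_base V.ι) (shortExact_abF (X := X) hS)

theorem exact_resAb : PreservesFiniteLimits (resAb V) ∧ PreservesFiniteColimits (resAb V) :=
  ((resAb V).exact_tfae.out 0 3).1 fun _ hS => shortExact_resAb V hS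

instance resAb_exactL : PreservesFiniteLimits (resAb V) := (exact_resAb V).1

instance resAb_exactR : PreservesFiniteColimits (resAb V) := (exact_resAb V).2

/-- The generator as a section over the whole open subscheme. -/
def univV : ((resAb V).obj (ModSite.freeOn X.sheaf V)).obj.obj (op ⊤) :=
  M1.mres (ModSite.freeOn X.sheaf V : X.Modules) V.ι_image_top.le
    (ev X.sheaf V (𝟙 (ModSite.freeOn X.sheaf V)))

/-- The comparison element. -/
def etaV : (constantSheaf (Opens.grothendieckTopology (sp (V : Scheme.{u}))) AddCommGrpCat.{u}).obj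
    (AddCommGrpCat.of (ULift.{u} ℤ)) ⟶ (resAb V).obj (ModSite.freeOn X.sheaf V) :=
  (constHomAddEquiv _).symm (univV V)

theorem constHom_etaV_comp {M : X.Modules} (φ : (ModSite.freeOn X.sheaf V : X.Modules) ⟶ M) :
    constHomAddEquiv _ (etaV V ≫ (resAb V).map φ) =
      M1.mres M V.ι_image_top.le (ev X.sheaf V (φ : ModSite.freeOn X.sheaf V ⟶ M)) := by
  rw [constHomAddEquiv_comp, etaV, AddEquiv.apply_symm_apply]
  refine Eq.trans ?_ (congrArg (M1.mres M V.ι_image_top.le)
    ((ev_comp X.sheaf (𝟙 (ModSite.freeOn X.sheaf V)) (φ : ModSite.freeOn X.sheaf V ⟶ M)).symm.trans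
      (congrArg _ (Category.id_comp _))))
  exact M1.app_mres φ _ _

theorem bijective_etaV (M : X.Modules) :
    Function.Bijective fun φ : (ModSite.freeOn X.sheaf V : X.Modules) ⟶ M => etaV V ≫ (resAb V).map φ := by
  have hm : Function.Bijective (M1.mres M V.ι_image_top.le) :=
    ⟨Function.LeftInverse.injective (g := M1.mres M V.ι_image_top.ge) fun s => by rw [M1.mres_mres, M1.mres_id],
      Function.RightInverse.surjective (g := M1.mres M V.ι_image_top.ge) fun s => by rw [M1.mres_mres, M1.mres_id]⟩
  refine (Function.Bijective.of_comp_iff' (constHomAddEquiv ((resAb V).obj M)).bijective _).1 ?_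
  have e : (⇑(constHomAddEquiv ((resAb V).obj M)) ∘ fun φ : (ModSite.freeOn X.sheaf V : X.Modules) ⟶ M =>
      etaV V ≫ (resAb V).map φ) = M1.mres M V.ι_image_top.le ∘ ev X.sheaf V := funext fun φ => constHom_etaV_comp V φ
  rw [e]
  exact hm.comp (ev X.sheaf V).bijective

variable [HasExt.{u} (ModSite.Mod X.sheaf)] [EnoughInjectives (ModSite.Mod X.sheaf)]

/-- Classes on an open as cohomology of the open subscheme. -/
def xcH (M : X.Modules) (n : ℕ) : XC X.sheaf V M n →+ Coh.HH (V : Scheme.{u}) (M.restrict V.ι) n :=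
  SiteCoh.extCompHom (R := resAb V) (etaV V) M n

theorem bijective_xcH (M : X.Modules) (n : ℕ) : Function.Bijective (xcH V M n) :=
  SiteCoh.bijective_extCompHom (R := resAb V) (etaV V) (bijective_etaV V) (fun I hI k => by
    haveI := hI
    haveI : TopCat.Sheaf.IsFlasque ((abF X).obj I) := isFlasque_abF_injective I
    haveI : Subsingleton (Hc ((abF X).obj I) (k + 1) V) := subsingleton_hc_of_isFlasque _ k V
    exact (nonempty_HHon_addEquiv I V (k + 1)).some.toEquiv.subsingleton) n M

/-- The equivalence of classes on an open with cohomology of the open subscheme. -/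
def xcEquiv (M : X.Modules) (n : ℕ) : XC X.sheaf V M n ≃+ Coh.HH (V : Scheme.{u}) (M.restrict V.ι) n :=
  AddEquiv.ofBijective (xcH V M n) (bijective_xcH V M n)

theorem xcH_post {M N : X.Modules} (φ : M ⟶ N) (n : ℕ) (ξ : XC X.sheaf V M n) :
    xcH V N n (XC.post (φ : (M : ModSite.Mod X.sheaf) ⟶ N) ξ) =
      Sheaf.H.map ((SheafOfModules.toSheaf (V : Scheme.{u}).ringCatSheaf).map
        ((Scheme.Modules.restrictFunctor V.ι).map φ)) n (xcH V M n ξ) := by
  refine (SiteCoh.extCompHom_comp (R := resAb V) (etaV V) ξ (Ext.mk₀ φ) (add_zero n)).trans ?_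
  rw [Ext.mapExactFunctor_mk₀]
  rfl

/-- Multiplication by a function on the open, on restrictions. -/
def multV (r : Coh.Γtop (V : Scheme.{u})) : resAb V ⟶ resAb V where
  app M := Coh.smulAb (Scheme.Modules.restrict (X := (V : Scheme.{u})) (M : X.Modules) V.ι) r
  naturality M N φ := by
    apply Sheaf.hom_ext
    ext W m
    exact (((Scheme.Modules.restrictFunctor V.ι).map φ).val.app W).hom.map_smul
      (Coh.resTop (V : Scheme.{u}) W r) m |>.symm

theorem xcH_smul (M : X.Modules) (n : ℕ) (b : X.sheaf.obj.obj (op V)) (r : Coh.Γtop (V : Scheme.{u}))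
    (hr : r = X.presheaf.map (eqToHom V.ι_image_top).op b) (ξ : XC X.sheaf V M n) :
    xcH V M n (b • ξ) = r • xcH V M n ξ := by
  show SiteCoh.extCompHom (R := resAb V) (etaV V) M n ((Ext.mk₀ (smF X.sheaf V b)).comp ξ (zero_add n)) =
    Sheaf.H.map (Coh.smulAb (M.restrict V.ι) r) n (SiteCoh.extCompHom (R := resAb V) (etaV V) M n ξ)
  rw [Sheaf.H.map_apply]
  refine FormalRqH7.extCompHom_pre (R := resAb V) (multV V r) (etaV V) (smF X.sheaf V b) ?_ ξ
  apply (constHomAddEquiv ((resAb V).obj (ModSite.freeOn X.sheaf V))).injective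
  rw [constHom_etaV_comp, ev_smF, constHomAddEquiv_comp, etaV, AddEquiv.apply_symm_apply]
  subst hr
  show M1.mres (ModSite.freeOn X.sheaf V : X.Modules) V.ι_image_top.le (b • ev X.sheaf V (𝟙 _)) =
    (Coh.smulAb (Scheme.Modules.restrict (ModSite.freeOn X.sheaf V : X.Modules) V.ι) _).hom.app (op ⊤) (univV V)
  rw [M1.mres_smul]
  refine Eq.trans ?_ (M1.restrict_ι_smul (ModSite.freeOn X.sheaf V : X.Modules) _ _).symm
  congr 1
  have h1 : ∀ x, Coh.resTop (V : Scheme.{u}) (op ⊤) x = x := fun x => by
    show ((V : Scheme.{u}).ringCatSheaf.obj.map _).hom x = x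
    rw [Subsingleton.elim (homOfLE _).op (𝟙 (op (⊤ : (V : Scheme.{u}).Opens))), CategoryTheory.Functor.map_id]
    rfl
  refine Eq.trans ?_ (h1 _).symm
  rfl

end Groth.Agent.FormalRqH7
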