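import Groth.Agent.Lib.ProperFormalH7.Bc

/-!
# The levels of the inverse image to a completion as modules on the scheme
-/

set_option autoImplicit false
set_option linter.style.haveILetI false
set_option linter.unusedSectionVars false
set_option backward.isDefEq.respectTransparency false
set_option backward.isDefEq.respectTransparency.types false
set_option maxHeartbeats 1000000
set_option synthInstance.maxHeartbeats 400000
set_option synthInstance.maxSize 1024
universe u

open CategoryTheory CategoryTheory.Limits AlgebraicGeometry Opposite TopologicalSpace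

noncomputable section

namespace Groth.Agent.FormalRqH7

open ProperFormalH7 FormalModH7

variable {X : Scheme.{u}} [IsLocallyNoetherian X] (𝓘 : X.IdealSheafData)
  (h : (FSch.completionAlong X 𝓘).IsFormal) (F : X.Modules)

/-- A level as a module on the scheme. -/
abbrev lvP (k : ℕ) : X.Modules := (tsm 𝓘 h).push.obj ((lvS (hC 𝓘 h) (Fh 𝓘 h F)).obj (op k))

theorem isIso_schPushCompare_app (k : ℕ) (M : ((FSch.completionAlong X 𝓘).X k).Modules) :
    IsIso ((FSch.schPushCompare (FSch.completionAlong X 𝓘) h (FSch.completionToX X 𝓘) (FSch.completionToX_comm X 𝓘) k).app M) := by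
  let φ : ((Scheme.Modules.pushforward (FSch.completionToX X 𝓘 k)).obj M : X.Modules) ⟶
      ((tsm 𝓘 h).push.obj ((FSch.levelMor (FSch.completionAlong X 𝓘) h k).push.obj M) : X.Modules) :=
    (FSch.schPushCompare (FSch.completionAlong X 𝓘) h (FSch.completionToX X 𝓘) (FSch.completionToX_comm X 𝓘) k).app M
  have hb : ∀ U : X.Opens, Function.Bijective (φ.app U) := fun U => by
    have hle := lvU_zO 𝓘 h k U
    have e : ∀ s, φ.app U s = M1.mres M hle.ge s := fun s => rfl
    refine ⟨fun a b hab => ?_, fun t => ⟨M1.mres M hle.le t, ?_⟩⟩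
    · have h2 := congrArg (M1.mres M hle.le) ((e a).symm.trans (hab.trans (e b)))
      rwa [M1.mres_mres, M1.mres_mres, M1.mres_id, M1.mres_id] at h2
    · refine (e _).trans ?_
      rw [M1.mres_mres]
      exact M1.mres_id M le_rfl t
  haveI : Mono φ := by
    rw [M1.mono_iff_app]
    exact fun U => (hb U).1
  haveI : Epi φ := by
    rw [M1.epi_iff_locally_surjective]
    intro U t x hx
    obtain ⟨s, hs⟩ := (hb U).2 t
    exact ⟨U, le_rfl, hx, s, hs.trans (M1.mres_id _ le_rfl t).symm⟩
  exact isIso_of_mono_of_epi φ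

theorem isCoh_lvP (hF : Coh.IsCoh F) (k : ℕ) : Coh.IsCoh (lvP 𝓘 h F k) := by
  haveI : SheafOfModules.IsFinitePresentation (R := ModSite.ringSh ((FSch.completionAlong X 𝓘).Osh h)) (Fh 𝓘 h F) :=
    isCohF_Fh 𝓘 h F hF
  haveI := isIso_schPushCompare_app 𝓘 h k (PL (hC 𝓘 h) (Fh 𝓘 h F) k)
  exact CohFound.isCoh_of_iso
    (asIso ((FSch.schPushCompare (FSch.completionAlong X 𝓘) h (FSch.completionToX X 𝓘) (FSch.completionToX_comm X 𝓘) k).app
      (PL (hC 𝓘 h) (Fh 𝓘 h F) k)))
    (isCoh_pushforward_of_isProper (FSch.completionToX X 𝓘 k) (isCoh_sysL (hC 𝓘 h) (Fh 𝓘 h F) k))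

end Groth.Agent.FormalRqH7
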