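import Groth.Agent.Lib.FormalRqH7.ExtOn
import Groth.Agent.Lib.ProperFormalH7.RqIso
import Groth.Agent.Lib.ProperFormalH7.Sections
import Groth.Agent.Lib.CohFound.RpushQCoh
import Groth.Agent.Lib.CohFound.QcohAffine
import Groth.Agent.Lib.CohFound.ModulesInst
import Groth.Prelude.Def_FSch6

/-!
# Sections of higher direct images over affine opens, naturally
-/

set_option autoImplicit false
set_option linter.style.haveILetI false
set_option linter.unusedSectionVars false
set_option backward.isDefEq.respectTransparency false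
set_option backward.isDefEq.respectTransparency.types false
set_option maxHeartbeats 1000000
set_option synthInstance.maxHeartbeats 400000
set_option synthInstance.maxSize 1024
universe u

open CategoryTheory CategoryTheory.Limits AlgebraicGeometry Opposite TopologicalSpace

noncomputable section

namespace Groth.Agent.FormalRqH7

open ProperFormalH7 CohFound

attribute [local instance] HasDerivedCategory.standard

/-- Right derived functors of isomorphic functors. -/
def rdIso {A : Type*} [Category A] [Abelian A] [HasInjectiveResolutions A] {B : Type*} [Category B] [Abelian B]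
    {F G : A ⥤ B} [F.Additive] [G.Additive] (θ : F ≅ G) (n : ℕ) : F.rightDerived n ≅ G.rightDerived n where
  hom := NatTrans.rightDerived θ.hom n
  inv := NatTrans.rightDerived θ.inv n
  hom_inv_id := by rw [← NatTrans.rightDerived_comp, Iso.hom_inv_id, NatTrans.rightDerived_id]
  inv_hom_id := by rw [← NatTrans.rightDerived_comp, Iso.inv_hom_id, NatTrans.rightDerived_id]

variable {X Y : Scheme.{u}} (f : X ⟶ Y) [HasInjectiveResolutions X.Modules] [HasInjectiveResolutions (ModSite.Mod X.sheaf)]
  [HasExt.{u} (ModSite.Mod X.sheaf)] [HasExt.{u} (ModSite.Mod Y.sheaf)]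
  [EnoughInjectives (ModSite.Mod X.sheaf)] [EnoughInjectives (ModSite.Mod Y.sheaf)]
  [SiteCmp.HasRpushD (ModSite.RMor.ofScheme f)]

/-- The morphism of ringed sites. -/
abbrev oS : ModSite.RMor X.sheaf Y.sheaf := ModSite.RMor.ofScheme f

/-- The two spellings of higher direct images. -/
def rqS (n : ℕ) : Rq (oS f) n ≅ ((Coh.Rpush f n : X.Modules ⥤ Y.Modules) : ModSite.Mod X.sheaf ⥤ ModSite.Mod Y.sheaf) :=
  haveI : HasInjectiveResolutions X.Modules := ‹HasInjectiveResolutions (ModSite.Mod X.sheaf)›
  rqIso (oS f) n ≪≫ @rdIso (ModSite.Mod X.sheaf) _ _ _ (ModSite.Mod Y.sheaf) _ _ (oS f).push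
    (Scheme.Modules.pushforward f : X.Modules ⥤ Y.Modules) inferInstance
    (inferInstanceAs (Scheme.Modules.pushforward f).Additive) (ModSite.RMor.ofSchemePush f) n

theorem isQCoh_rq [QuasiCompact f] [QuasiSeparated f] {M : X.Modules} (hM : Coh.IsQCoh M) (q : ℕ) :
    Coh.IsQCoh ((Rq (oS f) q).obj M : Y.Modules) :=
  M1.isQCoh_of_isIso (((rqS f q).app M).symm : ((Coh.Rpush f q).obj M : Y.Modules) ≅ _)
    (CohFound.isQCoh_rpush f hM q)

theorem subsingleton_xc_qcoh {N : Y.Modules} (hN : Coh.IsQCoh N) {U : Y.Opens} (hU : IsAffineOpen U) (k : ℕ)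
    (hk : 0 < k) : Subsingleton (XC Y.sheaf U N k) := by
  haveI : IsAffine (U : Scheme.{u}) := hU
  haveI : (N.restrict U.ι).IsQuasicoherent := M1.isQCoh_restrict hN U.ι
  haveI := subsingleton_HH_affine (N.restrict U.ι) k hk
  exact (xcEquiv U N k).toEquiv.subsingleton

theorem bijective_eta_qcoh [QuasiCompact f] [QuasiSeparated f] {M : X.Modules} (hM : Coh.IsQCoh M) (n : ℕ)
    {U : Y.Opens} (hU : IsAffineOpen U) : Function.Bijective (eta (oS f) U M n) :=
  bijective_eta (oS f) U M n fun q _ k hk => subsingleton_xc_qcoh (isQCoh_rq f hM q) hU k hk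

/-- Classes on the preimage give sections of the higher direct image. -/
def secR (U : Y.Opens) (M : X.Modules) (n : ℕ) :
    XC X.sheaf (f ⁻¹ᵁ U) M n →+ Γ((Coh.Rpush f n).obj M, U) :=
  AddMonoidHom.mk' (fun ξ => ((rqS f n).hom.app M).val.app (op U) (eta (oS f) U M n ξ))
    fun x y => (congrArg (((rqS f n).hom.app M).val.app (op U)).hom (map_add (eta (oS f) U M n) x y)).trans
      (map_add (((rqS f n).hom.app M).val.app (op U)).hom _ _)

theorem bijective_secR [QuasiCompact f] [QuasiSeparated f] {M : X.Modules} (hM : Coh.IsQCoh M) (n : ℕ)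
    {U : Y.Opens} (hU : IsAffineOpen U) : Function.Bijective (secR f U M n) :=
  (ConcreteCategory.bijective_of_isIso
    ((SheafOfModules.evaluation.{u} (ModSite.ringSh Y.sheaf) (op U)).map ((rqS f n).hom.app M))).comp
    (bijective_eta_qcoh f hM n hU)

theorem secR_post (U : Y.Opens) {M N : X.Modules} (φ : M ⟶ N) (n : ℕ) (ξ : XC X.sheaf (f ⁻¹ᵁ U) M n) :
    secR f U N n (XC.post (φ : (M : ModSite.Mod X.sheaf) ⟶ N) ξ) =
      ((Coh.Rpush f n).map φ).app U (secR f U M n ξ) := by
  refine (congrArg (((rqS f n).hom.app N).val.app (op U)).hom (eta_post (oS f) φ ξ)).trans ?_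
  exact congrArg (fun q : (Rq (oS f) n).obj M ⟶ _ => q.val.app (op U) (eta (oS f) U M n ξ))
    ((rqS f n).hom.naturality φ)

theorem secR_smul (U : Y.Opens) (M : X.Modules) (n : ℕ) (a : Y.sheaf.obj.obj (op U)) (ξ : XC X.sheaf (f ⁻¹ᵁ U) M n) :
    secR f U M n ((shp (oS f) U a) • (show XC X.sheaf ((oS f).fn.obj U) M n from ξ)) = a • (show ModSite.sect _ U from secR f U M n ξ) :=
  (congrArg (((rqS f n).hom.app M).val.app (op U)).hom (eta_smul (oS f) a ξ)).trans
    ((((rqS f n).hom.app M).val.app (op U)).hom.map_smul a _)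

end Groth.Agent.FormalRqH7
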