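import Groth.Agent.Lib.ProperFormalH7.ClosedH
import Groth.Agent.Lib.FormalModH7.CplPull
import Groth.Agent.Lib.FormalModH7.AffPush
import Groth.Agent.Lib.RDComp.Acyclic
import Groth.Agent.Lib.RDComp.Post
import Groth.Agent.Lib.ExtSupp8.AcyclicClass
import Groth.Agent.Lib.CohFound.ModFlasque
import Groth.Agent.Lib.CohFound.ModAb
import Groth.Agent.Lib.CohFound.ModulesInst
import Groth.Agent.Lib.FormalRqH7.RqSec
import Groth.Prelude.Def_FSch6

/-!
# Higher direct images commute with the direct image from a completion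
-/

set_option autoImplicit false
set_option linter.style.haveILetI false
set_option linter.unusedSectionVars false
set_option backward.isDefEq.respectTransparency false
set_option backward.isDefEq.respectTransparency.types false
set_option maxHeartbeats 1000000
set_option synthInstance.maxHeartbeats 400000
set_option synthInstance.maxSize 1024
universe u

open CategoryTheory CategoryTheory.Limits AlgebraicGeometry Opposite TopologicalSpace

noncomputable section

namespace Groth.Agent.FormalRqH7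

open ProperFormalH7 FormalModH7

section Exact

variable {X : Scheme.{u}} [IsLocallyNoetherian X] (𝓘 : X.IdealSheafData) (h : (FSch.completionAlong X 𝓘).IsFormal)

/-- The direct image from the completion, as a functor to modules on the scheme. -/
abbrev tPush : FSch.ModF (FSch.completionAlong X 𝓘) h ⥤ X.Modules := (tsm 𝓘 h).push

instance additive_tPush : (tPush 𝓘 h).Additive :=
  show (tsm 𝓘 h).push.Additive from inferInstance

theorem shortExact_tPush {S : ShortComplex (FSch.ModF (FSch.completionAlong X 𝓘) h)} (hS : S.ShortExact) :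
    (S.map (tPush 𝓘 h)).ShortExact := by
  have hN := isLocNoethFormal_completionAlong 𝓘 h
  haveI := (exact_push (FSch.completionToX X 𝓘 0).base (FSch.completionToX X 𝓘 0).isClosedEmbedding).1
  haveI := (exact_push (FSch.completionToX X 𝓘 0).base (FSch.completionToX X 𝓘 0).isClosedEmbedding).2
  have h1 : ((S.map (tPush 𝓘 h)).map (CohFound.abF X)).ShortExact :=
    (shortExact_abFs hN hS).map_of_exact (CohTop.push (FSch.completionToX X 𝓘 0).base)
  haveI := h1.mono_f
  haveI := h1.epi_g
  exact { exact := (ShortComplex.exact_map_iff_of_faithful (S.map (tPush 𝓘 h)) (CohFound.abF X)).1 h1.exact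
          mono_f := (CohFound.abF X).mono_of_mono_map h1.mono_f
          epi_g := (CohFound.abF X).epi_of_epi_map h1.epi_g }

theorem exact_tPush : PreservesFiniteLimits (tPush 𝓘 h) ∧ PreservesFiniteColimits (tPush 𝓘 h) :=
  ((tPush 𝓘 h).exact_tfae.out 0 3).1 fun _ hS => shortExact_tPush 𝓘 h hS

theorem isFlasque_tPush (I : FSch.ModF (FSch.completionAlong X 𝓘) h) [Injective I] :
    TopCat.Sheaf.IsFlasque ((CohFound.abF X).obj ((tPush 𝓘 h).obj I)) := by
  haveI : TopCat.Sheaf.IsFlasque ((abFs (isLocNoethFormal_completionAlong 𝓘 h)).obj I) :=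
    CohFound.isFlasque_mk _ fun _ _ hle s => CohFound.surjective_map_of_injective
      (ModSite.ringSh ((FSch.completionAlong X 𝓘).Osh h)) I inferInstance hle s
  exact TopCat.Sheaf.IsFlasque.pushforward_isFlasque ((abFs (isLocNoethFormal_completionAlong 𝓘 h)).obj I)
    (FSch.completionToX X 𝓘 0).base

theorem isAcyclicObj_tPush {Y : Scheme.{u}} (f : X ⟶ Y) (I : FSch.ModF (FSch.completionAlong X 𝓘) h) [Injective I]
    [HasInjectiveResolutions X.Modules] [(Scheme.Modules.pushforward f).Additive]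
    [PreservesFiniteLimits (Scheme.Modules.pushforward f)] :
    RFPlus.IsAcyclicObj (Scheme.Modules.pushforward f) ((tPush 𝓘 h).obj I) := by
  refine ExtSupp8.isAcyclicObj_of_class (Scheme.Modules.pushforward f)
    (fun M => TopCat.Sheaf.IsFlasque ((CohFound.abF X).obj M)) (fun J hJ => @CohFound.isFlasque_abF_injective X J hJ)
    (fun S hS h₁ h₂ => ?_) _ (isFlasque_tPush 𝓘 h I)
  haveI := h₁
  haveI := h₂
  have hS' : (S.map (CohFound.abF X)).ShortExact := hS.map_of_exact _
  haveI : TopCat.Sheaf.IsFlasque (S.map (CohFound.abF X)).X₁ := h₁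
  haveI : TopCat.Sheaf.IsFlasque (S.map (CohFound.abF X)).X₂ := h₂
  refine ⟨TopCat.Sheaf.IsFlasque.of_shortExact_of_isFlasque₁₂ hS', ?_⟩
  refine (M1.epi_iff_locally_surjective _).2 fun V t y hy => ?_
  obtain ⟨s, hs⟩ := (AddCommGrpCat.epi_iff_surjective _).1
    (TopCat.Sheaf.IsFlasque.epi_of_shortExact (U := f ⁻¹ᵁ V) hS') t
  exact ⟨V, le_rfl, hy, s, hs.trans (M1.mres_id _ le_rfl t).symm⟩

end Exact

variable {X Y : Scheme.{u}} [IsLocallyNoetherian X] [IsLocallyNoetherian Y] (f : X ⟶ Y)
  (𝓘 : Y.IdealSheafData) (𝓚 : X.IdealSheafData)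
  (hpc : FSch.PowCompat f 𝓚 𝓘) (hX : (FSch.completionAlong X 𝓚).IsFormal) (hY : (FSch.completionAlong Y 𝓘).IsFormal)

theorem nonempty_phi [HasInjectiveResolutions X.Modules]
    [HasInjectiveResolutions (FSch.ModF (FSch.completionAlong X 𝓚) hX)] (n : ℕ) :
    Nonempty (tPush 𝓚 hX ⋙ Coh.Rpush f n ≅
      FSch.RpushF (FSch.completionMap f 𝓚 𝓘 hpc) hX hY n ⋙ tPush 𝓘 hY) := by
  haveI : IsGrothendieckAbelian.{u} (FSch.ModF (FSch.completionAlong X 𝓚) hX) :=
    CohFound.isGrothendieckAbelian_sheafOfModules (ModSite.ringSh ((FSch.completionAlong X 𝓚).Osh hX))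
  haveI := IsGrothendieckAbelian.enoughInjectives (C := FSch.ModF (FSch.completionAlong X 𝓚) hX)
  haveI := (exact_tPush 𝓚 hX).1
  haveI := (exact_tPush 𝓚 hX).2
  haveI := (exact_tPush 𝓘 hY).1
  haveI := (exact_tPush 𝓘 hY).2
  haveI : (Scheme.Modules.pushforward f).IsRightAdjoint :=
    (Scheme.Modules.pullbackPushforwardAdjunction f).isRightAdjoint
  haveI : PreservesFiniteLimits (Scheme.Modules.pushforward f) := inferInstance
  obtain ⟨e⟩ := RDComp.nonempty_rightDerivedAcyclicIso (tPush 𝓚 hX) (Scheme.Modules.pushforward f)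
    (fun I hI => isAcyclicObj_tPush 𝓚 hX f I) n
  exact ⟨e.symm ≪≫
    rdIso (F := tPush 𝓚 hX ⋙ Scheme.Modules.pushforward f)
      (G := FSch.pushF (FSch.completionMap f 𝓚 𝓘 hpc) hX hY ⋙ tPush 𝓘 hY)
      (FSch.schPushSq (FSch.completionMap f 𝓚 𝓘 hpc) hX hY f (FSch.completionToX X 𝓚)
        (FSch.completionToX_comm X 𝓚) (FSch.completionToX Y 𝓘) (FSch.completionToX_comm Y 𝓘)
        (FSch.completionMap_sq f 𝓚 𝓘 hpc)) n ≪≫
    RDComp.rightDerivedPostIso (FSch.pushF (FSch.completionMap f 𝓚 𝓘 hpc) hX hY) (tPush 𝓘 hY) n⟩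

end Groth.Agent.FormalRqH7
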