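import Groth.Agent.Lib.FormalRqH7.RqFF
import Groth.Agent.Lib.FormalRqH7.Phi
import Groth.Agent.Lib.ProperFormalH7.SheafFunMain
import Groth.Agent.Lib.ProperFormalH7.BcCrit
import Groth.Agent.Lib.FormalModH7.CplFlat

/-!
# The completion commutes with higher direct images by a proper morphism
-/

set_option autoImplicit false
set_option linter.style.haveILetI false
set_option linter.unusedSectionVars false
set_option backward.isDefEq.respectTransparency false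
set_option backward.isDefEq.respectTransparency.types false
set_option maxHeartbeats 1000000
set_option synthInstance.maxHeartbeats 400000
set_option synthInstance.maxSize 1024
universe u

open CategoryTheory CategoryTheory.Limits AlgebraicGeometry Opposite TopologicalSpace

noncomputable section

namespace Groth.Agent.FormalRqH7

open ProperFormalH7 FormalModH7

attribute [local instance] HasDerivedCategory.standard

/-- The completion of a proper morphism is proper. -/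
theorem isProperHom_completionMap {X Y : Scheme.{u}} [IsLocallyNoetherian Y] (f : X ⟶ Y) [IsProper f]
    (𝓘 : Y.IdealSheafData) (𝓚 : X.IdealSheafData) (hpc : FSch.PowCompat f 𝓚 𝓘) (h𝓚 : 𝓚 = 𝓘.comap f) :
    FSch.IsProperHom (FSch.completionMap f 𝓚 𝓘 hpc) := by
  subst h𝓚
  exact ⟨FormalH7.isAdicHom_completionMap f 𝓘 hpc,
    MorphismProperty.of_isPullback (FormalH7.isPullback_completionMap f 𝓘 hpc 0) ‹_›⟩

variable {X Y : Scheme.{u}} [IsLocallyNoetherian X] [IsLocallyNoetherian Y] (f : X ⟶ Y)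
  (𝓘 : Y.IdealSheafData) (𝓚 : X.IdealSheafData)
  (hpc : FSch.PowCompat f 𝓚 𝓘) (hX : (FSch.completionAlong X 𝓚).IsFormal) (hY : (FSch.completionAlong Y 𝓘).IsFormal)
  [HasInjectiveResolutions X.Modules] [HasInjectiveResolutions (FSch.ModF (FSch.completionAlong X 𝓚) hX)] (n : ℕ)
  (Φ : tPush 𝓚 hX ⋙ Coh.Rpush f n ≅ FSch.RpushF (FSch.completionMap f 𝓚 𝓘 hpc) hX hY n ⋙ tPush 𝓘 hY)
  (F : X.Modules)

/-- The higher direct image of a level on the completion. -/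
abbrev TL (k : ℕ) : FSch.ModF (FSch.completionAlong Y 𝓘) hY :=
  (FSch.RpushF (FSch.completionMap f 𝓚 𝓘 hpc) hX hY n).obj ((lvS (hC 𝓚 hX) (Fh 𝓚 hX F)).obj (op k))

/-- The unit followed by the comparison. -/
def tMap : (Coh.Rpush f n).obj F ⟶
    (tPush 𝓘 hY).obj ((FSch.RpushF (FSch.completionMap f 𝓚 𝓘 hpc) hX hY n).obj (Fh 𝓚 hX F)) :=
  (Coh.Rpush f n).map ((tsm 𝓚 hX).adj.unit.app F : F ⟶ (tPush 𝓚 hX).obj (Fh 𝓚 hX F)) ≫ Φ.hom.app (Fh 𝓚 hX F)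

/-- The comparison of the completed higher direct image with the higher direct image of the completion. -/
def cMap : (tsm 𝓘 hY).pull.obj ((Coh.Rpush f n).obj F) ⟶
    (FSch.RpushF (FSch.completionMap f 𝓚 𝓘 hpc) hX hY n).obj (Fh 𝓚 hX F) :=
  ((tsm 𝓘 hY).adj.homEquiv _ _).symm (tMap f 𝓘 𝓚 hpc hX hY n Φ F)

theorem cMap_uS (U : Y.Opens) (s : Γ((Coh.Rpush f n).obj F, U)) :
    (cMap f 𝓘 𝓚 hpc hX hY n Φ F).val.app (op (zO 𝓘 U)) (uS 𝓘 hY ((Coh.Rpush f n).obj F) U s) =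
      (tMap f 𝓘 𝓚 hpc hX hY n Φ F).app U s := by
  have h := (tsm 𝓘 hY).adj.homEquiv_unit (f := cMap f 𝓘 𝓚 hpc hX hY n Φ F)
  rw [cMap, Equiv.apply_symm_apply] at h
  exact (congrArg (fun q => q.val.app (op U) s) h).symm

/-- The projection to the levels. -/
def piL (U : Y.Opens) (k : ℕ) :
    ModSite.sect ((FSch.RpushF (FSch.completionMap f 𝓚 𝓘 hpc) hX hY n).obj (Fh 𝓚 hX F)) (zO 𝓘 U) →+
      ModSite.sect (TL f 𝓘 𝓚 hpc hX hY n F k) (zO 𝓘 U) :=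
  (((FSch.RpushF (FSch.completionMap f 𝓚 𝓘 hpc) hX hY n).map (unitL (hC 𝓚 hX) (Fh 𝓚 hX F) k)).val.app
    (op (zO 𝓘 U))).hom.toAddMonoidHom

theorem piL_tMap (U : Y.Opens) (k : ℕ) (s : Γ((Coh.Rpush f n).obj F, U)) :
    piL f 𝓘 𝓚 hpc hX hY n F U k ((tMap f 𝓘 𝓚 hpc hX hY n Φ F).app U s) =
      (Φ.hom.app ((lvS (hC 𝓚 hX) (Fh 𝓚 hX F)).obj (op k))).app U (rqTheta f n 𝓚 hX F U k s) := by
  have h := Φ.hom.naturality (unitL (hC 𝓚 hX) (Fh 𝓚 hX F) k)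
  have h' : (Coh.Rpush f n).map (thetaK 𝓚 hX F k : F ⟶ lvP 𝓚 hX F k) ≫
      Φ.hom.app ((lvS (hC 𝓚 hX) (Fh 𝓚 hX F)).obj (op k)) =
      tMap f 𝓘 𝓚 hpc hX hY n Φ F ≫ (tPush 𝓘 hY).map
        ((FSch.RpushF (FSch.completionMap f 𝓚 𝓘 hpc) hX hY n).map (unitL (hC 𝓚 hX) (Fh 𝓚 hX F) k)) := by
    refine Eq.trans ?_ ((congrArg (fun q => (Coh.Rpush f n).map
      ((tsm 𝓚 hX).adj.unit.app F : F ⟶ (tPush 𝓚 hX).obj (Fh 𝓚 hX F)) ≫ q) h).trans (Category.assoc _ _ _).symm)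
    refine (congrArg (· ≫ _) ?_).trans (Category.assoc _ _ _)
    exact (Coh.Rpush f n).map_comp ((tsm 𝓚 hX).adj.unit.app F : F ⟶ (tPush 𝓚 hX).obj (Fh 𝓚 hX F))
      ((tPush 𝓚 hX).map (unitL (hC 𝓚 hX) (Fh 𝓚 hX F) k))
  exact (congrArg (fun q => q.app U s) h').symm

theorem piL_trans (U : Y.Opens) (k : ℕ)
    (y : ModSite.sect ((FSch.RpushF (FSch.completionMap f 𝓚 𝓘 hpc) hX hY n).obj (Fh 𝓚 hX F)) (zO 𝓘 U)) :
    ((FSch.RpushF (FSch.completionMap f 𝓚 𝓘 hpc) hX hY n).map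
      (FSch.levelTrans (FSch.completionAlong X 𝓚) hX (Fh 𝓚 hX F) k)).val.app (op (zO 𝓘 U))
        (piL f 𝓘 𝓚 hpc hX hY n F U (k + 1) y) = piL f 𝓘 𝓚 hpc hX hY n F U k y := by
  have h : (FSch.RpushF (FSch.completionMap f 𝓚 𝓘 hpc) hX hY n).map (unitL (hC 𝓚 hX) (Fh 𝓚 hX F) (k + 1)) ≫
      (FSch.RpushF (FSch.completionMap f 𝓚 𝓘 hpc) hX hY n).map
        (FSch.levelTrans (FSch.completionAlong X 𝓚) hX (Fh 𝓚 hX F) k) =
      (FSch.RpushF (FSch.completionMap f 𝓚 𝓘 hpc) hX hY n).map (unitL (hC 𝓚 hX) (Fh 𝓚 hX F) k) :=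
    ((FSch.RpushF (FSch.completionMap f 𝓚 𝓘 hpc) hX hY n).map_comp _ _).symm.trans
      (congrArg (FSch.RpushF (FSch.completionMap f 𝓚 𝓘 hpc) hX hY n).map
        (FSch.unit_levelTrans (FSch.completionAlong X 𝓚) hX (Fh 𝓚 hX F) k))
  exact congrArg (fun q => q.val.app (op (zO 𝓘 U)) y) h

theorem psi_trans (U : Y.Opens) (k : ℕ) (z : ModSite.sect (TL f 𝓘 𝓚 hpc hX hY n F (k + 1)) (zO 𝓘 U)) :
    ((Coh.Rpush f n).map (lvT 𝓚 hX F k)).app U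
        ((Φ.inv.app ((lvS (hC 𝓚 hX) (Fh 𝓚 hX F)).obj (op (k + 1)))).app U
          (show Γ((tPush 𝓘 hY).obj (TL f 𝓘 𝓚 hpc hX hY n F (k + 1)), U) from z)) =
      (Φ.inv.app ((lvS (hC 𝓚 hX) (Fh 𝓚 hX F)).obj (op k))).app U
        (show Γ((tPush 𝓘 hY).obj (TL f 𝓘 𝓚 hpc hX hY n F k), U) from
          ((FSch.RpushF (FSch.completionMap f 𝓚 𝓘 hpc) hX hY n).map
            (FSch.levelTrans (FSch.completionAlong X 𝓚) hX (Fh 𝓚 hX F) k)).val.app (op (zO 𝓘 U)) z) :=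
  (congrArg (fun q => q.app U (show Γ((tPush 𝓘 hY).obj (TL f 𝓘 𝓚 hpc hX hY n F (k + 1)), U) from z))
    (Φ.inv.naturality (FSch.levelTrans (FSch.completionAlong X 𝓚) hX (Fh 𝓚 hX F) k))).symm

variable [HasInjectiveResolutions (ModSite.Mod X.sheaf)] [HasExt.{u} (ModSite.Mod X.sheaf)]
  [HasExt.{u} (ModSite.Mod Y.sheaf)] [EnoughInjectives (ModSite.Mod X.sheaf)] [EnoughInjectives (ModSite.Mod Y.sheaf)]
  [SiteCmp.HasRpushD (ModSite.RMor.ofScheme f)] [IsProper f] (h𝓚 : 𝓚 = 𝓘.comap f) (hF : Coh.IsCoh F)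

include h𝓚 hF in
/-- The comparison is an isomorphism. -/
theorem isIso_cMap : IsIso (cMap f 𝓘 𝓚 hpc hX hY n Φ F) := by
  have hN : Coh.IsCoh ((Coh.Rpush f n).obj F) := CohFound.isCoh_rpush f hF n
  haveI : Coh.IsQCoh ((Coh.Rpush f n).obj F) := hN.1
  refine isIso_of_bijective_zO 𝓘 hY ((Coh.Rpush f n).obj F) hN _ fun U hU => ?_
  have hπc : ∀ (k : ℕ) (s : Γ((Coh.Rpush f n).obj F, U)),
      piL f 𝓘 𝓚 hpc hX hY n F U k ((cMap f 𝓘 𝓚 hpc hX hY n Φ F).val.app (op (zO 𝓘 U))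
        (uS 𝓘 hY ((Coh.Rpush f n).obj F) U s)) =
      (Φ.hom.app ((lvS (hC 𝓚 hX) (Fh 𝓚 hX F)).obj (op k))).app U (rqTheta f n 𝓚 hX F U k s) := fun k s =>
    (congrArg (piL f 𝓘 𝓚 hpc hX hY n F U k) (cMap_uS f 𝓘 𝓚 hpc hX hY n Φ F U s)).trans
      (piL_tMap f 𝓘 𝓚 hpc hX hY n Φ F U k s)
  have hΦinv : ∀ (k : ℕ) (t : Γ((Coh.Rpush f n).obj (lvP 𝓚 hX F k), U)),
      (Φ.inv.app ((lvS (hC 𝓚 hX) (Fh 𝓚 hX F)).obj (op k))).app U
        ((Φ.hom.app ((lvS (hC 𝓚 hX) (Fh 𝓚 hX F)).obj (op k))).app U t) = t := fun k t =>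
    congrArg (fun q => q.app U t) (Φ.hom_inv_id_app ((lvS (hC 𝓚 hX) (Fh 𝓚 hX F)).obj (op k)))
  have hΦhom : ∀ (k : ℕ) (z : ModSite.sect (TL f 𝓘 𝓚 hpc hX hY n F k) (zO 𝓘 U)),
      (show ModSite.sect (TL f 𝓘 𝓚 hpc hX hY n F k) (zO 𝓘 U) from
        (Φ.hom.app ((lvS (hC 𝓚 hX) (Fh 𝓚 hX F)).obj (op k))).app U
          ((Φ.inv.app ((lvS (hC 𝓚 hX) (Fh 𝓚 hX F)).obj (op k))).app U
            (show Γ((tPush 𝓘 hY).obj (TL f 𝓘 𝓚 hpc hX hY n F k), U) from z))) = z := fun k z =>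
    congrArg (fun q => q.app U (show Γ((tPush 𝓘 hY).obj (TL f 𝓘 𝓚 hpc hX hY n F k), U) from z))
      (Φ.inv_hom_id_app ((lvS (hC 𝓚 hX) (Fh 𝓚 hX F)).obj (op k)))
  refine bijective_app_of_levels 𝓘 hY ((Coh.Rpush f n).obj F) hN _ hU
    (piL f 𝓘 𝓚 hpc hX hY n F U) (fun y hy => ?_) (fun k x hx => ?_) (fun k => ?_) (fun y k => ?_)
  · have hpf : FSch.IsProperHom (FSch.completionMap f 𝓚 𝓘 hpc) := isProperHom_completionMap f 𝓘 𝓚 hpc h𝓚
    obtain ⟨e, he⟩ := exists_iso_limit_levels (hC 𝓚 hX) (hC 𝓘 hY) (FSch.completionMap f 𝓚 𝓘 hpc) hpf (Fh 𝓚 hX F)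
      (isCohF_Fh 𝓚 hX F hF) n
    have h1 : e.hom.val.app (op (zO 𝓘 U)) y = 0 :=
      limit_sect_ext (hC 𝓘 hY) _ _ (e.hom.val.app (op (zO 𝓘 U)) y) fun k =>
        (congrArg (fun q => q.val.app (op (zO 𝓘 U)) y) (he k)).trans (hy k)
    have h2 := congrArg (fun q => q.val.app (op (zO 𝓘 U)) y) e.hom_inv_id
    refine h2.symm.trans ?_
    show e.inv.val.app (op (zO 𝓘 U)) (e.hom.val.app (op (zO 𝓘 U)) y) = 0
    rw [h1, map_zero]
  · have hx' := (mem_pow_iff_piM 𝓘 hY ((Coh.Rpush f n).obj F) hN hU k x).2 hx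
    refine Submodule.smul_induction_on hx' (fun a ha m _ => ?_) (fun a b ha hb => ?_)
    · refine (congrArg (piL f 𝓘 𝓚 hpc hX hY n F U k)
        (((cMap f 𝓘 𝓚 hpc hX hY n Φ F).val.app (op (zO 𝓘 U))).hom.map_smul a m)).trans ?_
      refine ((((FSch.RpushF (FSch.completionMap f 𝓚 𝓘 hpc) hX hY n).map
        (unitL (hC 𝓚 hX) (Fh 𝓚 hX F) k)).val.app (op (zO 𝓘 U))).hom.map_smul a _).trans ?_
      obtain ⟨z, hz⟩ : ∃ z : ModSite.sect (TL f 𝓘 𝓚 hpc hX hY n F k) (zO 𝓘 U),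
          z = piL f 𝓘 𝓚 hpc hX hY n F U k ((cMap f 𝓘 𝓚 hpc hX hY n Φ F).val.app (op (zO 𝓘 U)) m) := ⟨_, rfl⟩
      show a • piL f 𝓘 𝓚 hpc hX hY n F U k ((cMap f 𝓘 𝓚 hpc hX hY n Φ F).val.app (op (zO 𝓘 U)) m) = 0
      rw [← hz]
      rw [← map_ideal_shA 𝓘 hY hU, ← Ideal.map_pow] at ha
      induction ha using Submodule.span_induction with
      | mem a ha =>
        obtain ⟨b, hb, rfl⟩ := ha
        obtain ⟨z', hz'⟩ : ∃ z' : Γ((tPush 𝓘 hY).obj (TL f 𝓘 𝓚 hpc hX hY n F k), U), z' = z := ⟨z, rfl⟩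
        have hb' : (show Γ(Y, U) from b) • z' = 0 := by
          have h3 := smul_rq_eq_zero f hU n 𝓘 𝓚 h𝓚 hX F hF k b hb
            ((Φ.inv.app ((lvS (hC 𝓚 hX) (Fh 𝓚 hX F)).obj (op k))).app U z')
          have h4 := congrArg ((Φ.hom.app ((lvS (hC 𝓚 hX) (Fh 𝓚 hX F)).obj (op k))).app U) h3
          rw [map_zero, Scheme.Modules.Hom.app_smul] at h4
          refine Eq.trans ?_ h4
          exact congrArg (fun q => (show Γ(Y, U) from b) • q)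
            (congrArg (fun q => q.app U z') (Φ.inv_hom_id_app ((lvS (hC 𝓚 hX) (Fh 𝓚 hX F)).obj (op k)))).symm
        rw [← hz']
        exact hb'
      | zero => exact zero_smul _ z
      | add a b _ _ ha hb => rw [add_smul, ha, hb, add_zero]
      | smul r a _ ha => rw [smul_assoc, ha, smul_zero]
    · rw [map_add, map_add, ha, hb, add_zero]
  · obtain ⟨m, hm⟩ := exists_ker_rq f hU n 𝓘 𝓚 h𝓚 hX F hF k
    refine ⟨m, fun s hs => (resC_eq_zero_iff 𝓘 hY _ hU k s).2 (hm s ?_)⟩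
    exact (hΦinv m _).symm.trans ((congrArg ((Φ.inv.app ((lvS (hC 𝓚 hX) (Fh 𝓚 hX F)).obj (op m))).app U)
      ((hπc m s).symm.trans hs)).trans (map_zero _))
  · obtain ⟨z, hz⟩ : ∃ z : ∀ i, Γ((Coh.Rpush f n).obj (lvP 𝓚 hX F i), U), ∀ i, z i =
        (Φ.inv.app ((lvS (hC 𝓚 hX) (Fh 𝓚 hX F)).obj (op i))).app U
          (show Γ((tPush 𝓘 hY).obj (TL f 𝓘 𝓚 hpc hX hY n F i), U) from piL f 𝓘 𝓚 hpc hX hY n F U i y) :=
      ⟨_, fun _ => rfl⟩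
    have hzc : ∀ i, ((Coh.Rpush f n).map (lvT 𝓚 hX F i)).app U (z (i + 1)) = z i := fun i => by
      rw [hz, hz, psi_trans, piL_trans]
    obtain ⟨s, hs⟩ := exists_lift_rq f hU n 𝓘 𝓚 h𝓚 hX F hF z hzc k
    have hdown : ∀ j, ∀ i ≤ j, rqTheta f n 𝓚 hX F U j s = z j → rqTheta f n 𝓚 hX F U i s = z i := fun j i hi => by
      induction j, hi using Nat.le_induction with
      | base => exact id
      | succ j _ ih =>
        intro hj
        refine ih ?_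
        rw [← hzc j, ← hj]
        exact congrArg (fun q => q.app U s) ((congrArg (Coh.Rpush f n).map (thetaK_trans 𝓚 hX F j).symm).trans
          ((Coh.Rpush f n).map_comp _ _))
    refine ⟨s, fun i hi => ?_⟩
    rw [hπc, hdown k i hi hs, hz]
    exact hΦhom i _

end Groth.Agent.FormalRqH7
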