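import Groth.Agent.Lib.FormalRqH7.RqSec
import Groth.Agent.Lib.FormalRqH7.Levels
import Groth.Agent.Lib.ProperFormalH7.FFZero
import Groth.Agent.Lib.ProperFormalH7.CplLim

/-!
# Formal functions for the higher direct images over an affine open
-/

set_option autoImplicit false
set_option linter.style.haveILetI false
set_option linter.unusedSectionVars false
set_option backward.isDefEq.respectTransparency false
set_option backward.isDefEq.respectTransparency.types false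
set_option maxHeartbeats 1000000
set_option synthInstance.maxHeartbeats 400000
set_option synthInstance.maxSize 1024
universe u

open CategoryTheory CategoryTheory.Limits AlgebraicGeometry Opposite TopologicalSpace

noncomputable section

namespace Groth.Agent.FormalRqH7

open ProperFormalH7 FormalModH7

attribute [local instance] HasDerivedCategory.standard

variable {X Y : Scheme.{u}} (f : X ⟶ Y) [HasInjectiveResolutions X.Modules] [HasInjectiveResolutions (ModSite.Mod X.sheaf)]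
  [HasExt.{u} (ModSite.Mod X.sheaf)] [HasExt.{u} (ModSite.Mod Y.sheaf)]
  [EnoughInjectives (ModSite.Mod X.sheaf)] [EnoughInjectives (ModSite.Mod Y.sheaf)]
  [SiteCmp.HasRpushD (ModSite.RMor.ofScheme f)]
  {U : Y.Opens} (hU : IsAffineOpen U) (n : ℕ)

/-- Cohomology of the preimage gives sections of the higher direct image. -/
def sH (U : Y.Opens) (n : ℕ) (M : X.Modules) :
    Coh.HH ((f ⁻¹ᵁ U : X.Opens) : Scheme.{u}) (M.restrict (f ⁻¹ᵁ U).ι) n →+ Γ((Coh.Rpush f n).obj M, U) :=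
  (secR f U M n).comp (xcEquiv (f ⁻¹ᵁ U) M n).symm.toAddMonoidHom

theorem sH_natural (U : Y.Opens) {M N : X.Modules} (φ : M ⟶ N)
    (x : Coh.HH ((f ⁻¹ᵁ U : X.Opens) : Scheme.{u}) (M.restrict (f ⁻¹ᵁ U).ι) n) :
    sH f U n N (Sheaf.H.map ((SheafOfModules.toSheaf _).map
      ((Scheme.Modules.restrictFunctor (f ⁻¹ᵁ U).ι).map φ)) n x) =
      ((Coh.Rpush f n).map φ).app U (sH f U n M x) := by
  obtain ⟨ξ, rfl⟩ := (xcEquiv (f ⁻¹ᵁ U) M n).surjective x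
  refine Eq.trans ?_ ((secR_post f U φ n ξ).trans
    (congrArg (fun q => ((Coh.Rpush f n).map φ).app U (secR f U M n q)) ((xcEquiv (f ⁻¹ᵁ U) M n).symm_apply_apply ξ).symm))
  exact congrArg (secR f U N n) ((xcEquiv (f ⁻¹ᵁ U) N n).symm_apply_eq.2 (xcH_post (f ⁻¹ᵁ U) φ n ξ).symm)

theorem toGlobal_overPre (a : Γ(Y, U)) :
    letI := overPre f hU
    Coh.toGlobal ((f ⁻¹ᵁ U : X.Opens).toScheme ↘ Spec (CommRingCat.of Γ(Y, U))) a =
      X.presheaf.map (eqToHom (f ⁻¹ᵁ U).ι_image_top).op (f.app U a) := by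
  letI := overPre f hU
  have h1 : FormalH7.multHom (f ⁻¹ᵁ U : X.Opens).toScheme ⊤ a =
      (f.appLE U ((f ⁻¹ᵁ U).ι ''ᵁ ⊤) (image_le_preimage f ⊤)).hom a :=
    RingHom.congr_fun (multHom_overPre f hU ⊤) a
  refine Eq.trans ?_ (h1.trans ?_)
  · show _ = ((f ⁻¹ᵁ U : X.Opens).toScheme.presheaf.map _).hom _
    rw [Subsingleton.elim (homOfLE _).op (𝟙 (op (⊤ : (f ⁻¹ᵁ U : X.Opens).toScheme.Opens))), CategoryTheory.Functor.map_id]
    rfl
  · show _ = (f.app U ≫ X.presheaf.map _).hom a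
    rw [Scheme.Hom.app_eq_appLE, Scheme.Hom.appLE_map]

theorem sH_smul (M : X.Modules) (a : Γ(Y, U))
    (x : Coh.HH ((f ⁻¹ᵁ U : X.Opens) : Scheme.{u}) (M.restrict (f ⁻¹ᵁ U).ι) n) :
    letI := overPre f hU
    sH f U n M (a • x) = a • sH f U n M x := by
  letI := overPre f hU
  obtain ⟨ξ, rfl⟩ := (xcEquiv (f ⁻¹ᵁ U) M n).surjective x
  have h1 : xcH (f ⁻¹ᵁ U) M n ((shp (oS f) U a) • (show XC X.sheaf ((oS f).fn.obj U) M n from ξ)) =
      a • xcH (f ⁻¹ᵁ U) M n ξ := xcH_smul (f ⁻¹ᵁ U) M n _ _ (toGlobal_overPre f hU a) ξ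
  refine ((congrArg (secR f U M n) ((xcEquiv (f ⁻¹ᵁ U) M n).symm_apply_eq.2 h1.symm)).trans
    (secR_smul f U M n a ξ)).trans ?_
  exact congrArg (fun q => a • secR f U M n q) ((xcEquiv (f ⁻¹ᵁ U) M n).symm_apply_apply ξ).symm

theorem bijective_sH [QuasiCompact f] [QuasiSeparated f] {M : X.Modules} (hM : Coh.IsQCoh M)
    (hU : IsAffineOpen U) : Function.Bijective (sH f U n M) :=
  (bijective_secR f hM n hU).comp (xcEquiv (f ⁻¹ᵁ U) M n).symm.bijective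

variable [IsLocallyNoetherian X] [IsLocallyNoetherian Y] [IsProper f] (𝓘 : Y.IdealSheafData) (𝓚 : X.IdealSheafData) (h𝓚 : 𝓚 = 𝓘.comap f)
  (hX : (FSch.completionAlong X 𝓚).IsFormal) (F : X.Modules) (hF : Coh.IsCoh F)

/-- The map to a level over the preimage. -/
abbrev thetaR (U : Y.Opens) (k : ℕ) : resPre f F U ⟶ (lvP 𝓚 hX F k).restrict (f ⁻¹ᵁ U).ι :=
  (Scheme.Modules.restrictFunctor (f ⁻¹ᵁ U).ι).map (thetaK 𝓚 hX F k : F ⟶ lvP 𝓚 hX F k)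

include h𝓚 hF in
theorem smulFamily_thetaR (k : ℕ) :
    letI := overPre f hU
    Formal.smulFamily (𝓘.ideal ⟨U, hU⟩ ^ (k + 1)) (resPre f F U) ≫ thetaR f 𝓚 hX F U k = 0 := by
  letI := overPre f hU
  haveI := hF.1
  refine (FormalH7.smulFamily_comp_eq_zero_iff _).2 fun a ha => ?_
  refine ModLimH13.hom_ext_affine _ _ fun x => ⟨⊤, trivial, fun W _ hW s => ?_⟩
  show (thetaK 𝓚 hX F k).val.app (op ((f ⁻¹ᵁ U).ι ''ᵁ W)) ((Formal.smulMod Γ(Y, U) (resPre f F U) a).app W s) = 0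
  rw [thetaK_eq_zero_iff 𝓚 hX F hF (hW.image_of_isOpenImmersion _)]
  refine (app_π_eq_zero_iff_resC f hU 𝓘 𝓚 h𝓚 hX F hF hW _ k).1 ?_
  exact congrArg (fun q => q.app W s)
    ((FormalH7.smulFamily_comp_eq_zero_iff (Formal.modPowπ (𝓘.ideal ⟨U, hU⟩) (k + 1) (resPre f F U))).1
      (cokernel.condition (Formal.smulFamily (𝓘.ideal ⟨U, hU⟩ ^ (k + 1)) (resPre f F U))) a ha)

/-- The quotient by a power over the preimage maps to the level. -/
def psiR (k : ℕ) :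
    letI := overPre f hU
    Formal.modPow (𝓘.ideal ⟨U, hU⟩) (k + 1) (resPre f F U) ⟶ (lvP 𝓚 hX F k).restrict (f ⁻¹ᵁ U).ι :=
  letI := overPre f hU
  cokernel.desc _ (thetaR f 𝓚 hX F U k) (smulFamily_thetaR f hU 𝓘 𝓚 h𝓚 hX F hF k)

theorem π_psiR (k : ℕ) :
    letI := overPre f hU
    Formal.modPowπ (𝓘.ideal ⟨U, hU⟩) (k + 1) (resPre f F U) ≫ psiR f hU 𝓘 𝓚 h𝓚 hX F hF k = thetaR f 𝓚 hX F U k :=
  cokernel.π_desc _ _ _

theorem thetaK_trans (k : ℕ) :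
    (thetaK 𝓚 hX F (k + 1) : F ⟶ lvP 𝓚 hX F (k + 1)) ≫
      ((tsm 𝓚 hX).push.map (FSch.levelTrans (FSch.completionAlong X 𝓚) hX (Fh 𝓚 hX F) k) :
        lvP 𝓚 hX F (k + 1) ⟶ lvP 𝓚 hX F k) = (thetaK 𝓚 hX F k : F ⟶ lvP 𝓚 hX F k) := by
  refine (Category.assoc _ _ _).trans (congrArg ((tsm 𝓚 hX).adj.unit.app F ≫ ·) ?_)
  refine ((tsm 𝓚 hX).push.map_comp _ _).symm.trans (congrArg (tsm 𝓚 hX).push.map ?_)
  exact FSch.unit_levelTrans (FSch.completionAlong X 𝓚) hX (Fh 𝓚 hX F) k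

/-- The transition between levels on the scheme. -/
abbrev lvT (k : ℕ) : lvP 𝓚 hX F (k + 1) ⟶ lvP 𝓚 hX F k :=
  (tsm 𝓚 hX).push.map (FSch.levelTrans (FSch.completionAlong X 𝓚) hX (Fh 𝓚 hX F) k)

theorem psiR_trans (k : ℕ) :
    letI := overPre f hU
    psiR f hU 𝓘 𝓚 h𝓚 hX F hF (k + 1) ≫ (Scheme.Modules.restrictFunctor (f ⁻¹ᵁ U).ι).map (lvT 𝓚 hX F k) =
      Formal.modPowTrans (𝓘.ideal ⟨U, hU⟩) (k + 1) (resPre f F U) ≫ psiR f hU 𝓘 𝓚 h𝓚 hX F hF k := by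
  letI := overPre f hU
  haveI := FormalH7.epi_modPowπ (𝓘.ideal ⟨U, hU⟩) (k + 1 + 1) (resPre f F U)
  rw [← cancel_epi (Formal.modPowπ (𝓘.ideal ⟨U, hU⟩) (k + 1 + 1) (resPre f F U)), ← Category.assoc, π_psiR,
    ← Category.assoc, Formal.modPowπ_trans, π_psiR, ← Functor.map_comp, thetaK_trans]

theorem isIso_psiR (k : ℕ) : IsIso (psiR f hU 𝓘 𝓚 h𝓚 hX F hF k) := by
  letI := overPre f hU
  haveI : Coh.IsQCoh F := hF.1
  haveI : IsLocallyNoetherian (f ⁻¹ᵁ U : X.Opens).toScheme := inferInstance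
  have hG : Coh.IsCoh (resPre f F U) := ⟨M1.isQCoh_restrict hF.1 _, M1.isFT_restrict hF.2 _⟩
  have happ : ∀ (W : (f ⁻¹ᵁ U : X.Opens).toScheme.Opens) (s : Γ(resPre f F U, W)),
      (psiR f hU 𝓘 𝓚 h𝓚 hX F hF k).app W ((Formal.modPowπ (𝓘.ideal ⟨U, hU⟩) (k + 1) (resPre f F U)).app W s) =
        (thetaK 𝓚 hX F k).val.app (op ((f ⁻¹ᵁ U).ι ''ᵁ W)) s :=
    fun W s => congrArg (fun q => q.app W s) (π_psiR f hU 𝓘 𝓚 h𝓚 hX F hF k)
  haveI : Mono (psiR f hU 𝓘 𝓚 h𝓚 hX F hF k) := by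
    rw [M1.mono_iff_app]
    intro V
    refine (injective_iff_map_eq_zero _).2 fun t ht => M1.section_ext _ _ fun x hx => ?_
    obtain ⟨W, hW, hxW, hWV⟩ := exists_isAffineOpen_mem_and_subset (x := x) (U := V) hx
    rw [← M1.germ_mres _ hWV hxW, map_zero]
    suffices h0 : M1.mres _ hWV t = 0 by rw [h0, map_zero]
    obtain ⟨s, hs⟩ := HomShH7.surjective_app_modPowπ (𝓘.ideal ⟨U, hU⟩) hG (k + 1) hW (M1.mres _ hWV t)
    rw [← hs, app_π_eq_zero_iff_resC f hU 𝓘 𝓚 h𝓚 hX F hF hW,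
      ← thetaK_eq_zero_iff 𝓚 hX F hF (hW.image_of_isOpenImmersion _), ← happ, hs, M1.app_mres, ht, map_zero]
  haveI : Epi (psiR f hU 𝓘 𝓚 h𝓚 hX F hF k) := by
    rw [M1.epi_iff_locally_surjective]
    intro V t x hx
    obtain ⟨W, hW, hxW, hWV⟩ := exists_isAffineOpen_mem_and_subset (x := x) (U := V) hx
    obtain ⟨s, hs⟩ := thetaK_surjective 𝓚 hX F hF (hW.image_of_isOpenImmersion (f ⁻¹ᵁ U).ι) k
      (M1.mres ((lvP 𝓚 hX F k).restrict (f ⁻¹ᵁ U).ι) hWV t)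
    exact ⟨W, hWV, hxW, (Formal.modPowπ (𝓘.ideal ⟨U, hU⟩) (k + 1) (resPre f F U)).app W
      (s : Γ(resPre f F U, W)), (happ W s).trans hs⟩
  exact isIso_of_mono_of_epi _

/-- The map induced by the levels on sections of the higher direct image. -/
abbrev rqTheta (U : Y.Opens) (k : ℕ) : Γ((Coh.Rpush f n).obj F, U) → Γ((Coh.Rpush f n).obj (lvP 𝓚 hX F k), U) :=
  fun s => ((Coh.Rpush f n).map (thetaK 𝓚 hX F k : F ⟶ lvP 𝓚 hX F k)).app U s

theorem rqTheta_sH (k : ℕ) (x : Coh.HH ((f ⁻¹ᵁ U : X.Opens) : Scheme.{u}) (resPre f F U) n) :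
    letI := overPre f hU
    rqTheta f n 𝓚 hX F U k (sH f U n F x) = sH f U n (lvP 𝓚 hX F k)
      (Sheaf.H.map ((SheafOfModules.toSheaf _).map (psiR f hU 𝓘 𝓚 h𝓚 hX F hF k)) n
        (Formal.toHHmodPow (𝓘.ideal ⟨U, hU⟩) (resPre f F U) n k x)) := by
  letI := overPre f hU
  refine (sH_natural f n U (thetaK 𝓚 hX F k : F ⟶ lvP 𝓚 hX F k) x).symm.trans (congrArg (sH f U n (lvP 𝓚 hX F k)) ?_)
  refine Eq.trans ?_ (Formal.HHmap_comp _ _ n x).symm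
  exact congrArg (fun q => Sheaf.H.map ((SheafOfModules.toSheaf _).map q) n x) (π_psiR f hU 𝓘 𝓚 h𝓚 hX F hF k).symm

include h𝓚 hF hU in
/-- Sections of a higher direct image vanishing deep enough in the levels are adically small. -/
theorem exists_ker_rq (k : ℕ) :
    ∃ m, ∀ s : Γ((Coh.Rpush f n).obj F, U), rqTheta f n 𝓚 hX F U m s = 0 →
      s ∈ 𝓘.ideal ⟨U, hU⟩ ^ (k + 1) • (⊤ : Submodule Γ(Y, U) Γ((Coh.Rpush f n).obj F, U)) := by
  letI := overPre f hU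
  haveI : IsNoetherianRing Γ(Y, U) := IsLocallyNoetherian.component_noetherian ⟨U, hU⟩
  haveI : IsProper ((f ⁻¹ᵁ U : X.Opens).toScheme ↘ Spec (CommRingCat.of Γ(Y, U))) :=
    inferInstanceAs (IsProper (f ∣_ U ≫ hU.isoSpec.hom))
  obtain ⟨c, hc⟩ := CohFound.FF.exists_R_small (𝓘.ideal ⟨U, hU⟩) (resPre f F U) n
    ⟨M1.isQCoh_restrict hF.1 _, M1.isFT_restrict hF.2 _⟩
  refine ⟨k + c, fun s hs => ?_⟩
  obtain ⟨x, rfl⟩ := (bijective_sH f n hF.1 hU).2 s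
  have hinj := (bijective_sH f n (isCoh_lvP 𝓚 hX F hF (k + c)).1 hU).1
  haveI := isIso_psiR f hU 𝓘 𝓚 h𝓚 hX F hF (k + c)
  have h0 := hinj ((rqTheta_sH f hU n 𝓘 𝓚 h𝓚 hX F hF (k + c) x).symm.trans (hs.trans (map_zero _).symm))
  have h1 : Formal.toHHmodPow (𝓘.ideal ⟨U, hU⟩) (resPre f F U) n (k + c) x = 0 :=
    (hhIso (asIso (psiR f hU 𝓘 𝓚 h𝓚 hX F hF (k + c))) n).injective (h0.trans (map_zero _).symm)
  have h2 : x ∈ (CohFound.FF.R (𝓘.ideal ⟨U, hU⟩) (resPre f F U) n (k + c + 1) : Set _) :=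
    (CohFound.FF.ker_toHHmodPow (𝓘.ideal ⟨U, hU⟩) (resPre f F U) n (k + c)) ▸ h1
  have h3 := hc (k + c + 1) (by omega) h2
  rw [show k + c + 1 - c = k + 1 by omega] at h3
  refine Submodule.smul_induction_on h3 (fun a ha y _ => ?_) (fun y z hy hz => ?_)
  · rw [sH_smul f hU n]
    exact Submodule.smul_mem_smul ha Submodule.mem_top
  · rw [map_add]
    exact add_mem hy hz

include h𝓚 hF hU in
/-- Compatible families of sections of the higher direct images of the levels come from the direct image. -/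
theorem exists_lift_rq (z : ∀ i, Γ((Coh.Rpush f n).obj (lvP 𝓚 hX F i), U))
    (hz : ∀ i, ((Coh.Rpush f n).map (lvT 𝓚 hX F i)).app U (z (i + 1)) = z i) (k : ℕ) :
    ∃ s : Γ((Coh.Rpush f n).obj F, U), rqTheta f n 𝓚 hX F U k s = z k := by
  letI := overPre f hU
  haveI : IsNoetherianRing Γ(Y, U) := IsLocallyNoetherian.component_noetherian ⟨U, hU⟩
  haveI : IsProper ((f ⁻¹ᵁ U : X.Opens).toScheme ↘ Spec (CommRingCat.of Γ(Y, U))) :=
    inferInstanceAs (IsProper (f ∣_ U ≫ hU.isoSpec.hom))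
  haveI := isIso_psiR f hU 𝓘 𝓚 h𝓚 hX F hF
  let e := fun i => hhIso (asIso (psiR f hU 𝓘 𝓚 h𝓚 hX F hF i)) n
  have hw : ∀ i, ∃ w : Formal.HHmodPow (𝓘.ideal ⟨U, hU⟩) (resPre f F U) n i,
      sH f U n (lvP 𝓚 hX F i) (e i w) = z i := fun i => by
    obtain ⟨v, hv⟩ := (bijective_sH f n (isCoh_lvP 𝓚 hX F hF i).1 hU).2 (z i)
    exact ⟨(e i).symm v, by rw [AddEquiv.apply_symm_apply, hv]⟩
  choose w hw using hw
  have hwt : ∀ i, Formal.HHmodPowTrans (𝓘.ideal ⟨U, hU⟩) (resPre f F U) n i (w (i + 1)) = w i := fun i => by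
    apply (e i).injective
    apply (bijective_sH f n (isCoh_lvP 𝓚 hX F hF i).1 hU).1
    rw [hw, ← hz, ← hw (i + 1), ← sH_natural]
    refine congrArg (sH f U n (lvP 𝓚 hX F i)) ?_
    refine (hhMap_comp _ _ n _).trans (Eq.trans ?_ (hhMap_comp _ _ n _).symm)
    exact congrArg (fun q => hhMap q n (w (i + 1))) (psiR_trans f hU 𝓘 𝓚 h𝓚 hX F hF i).symm
  obtain ⟨x, hx⟩ := CohFound.FF.exists_lifts (𝓘.ideal ⟨U, hU⟩) (resPre f F U) n
    ⟨M1.isQCoh_restrict hF.1 _, M1.isFT_restrict hF.2 _⟩ ⟨w, hwt⟩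
  refine ⟨sH f U n F (x k), ?_⟩
  rw [rqTheta_sH f hU n 𝓘 𝓚 h𝓚 hX F hF k (x k), hx k, ← hw k]
  rfl

include h𝓚 hF hU in
/-- The powers of the ideal kill the sections of the higher direct images of the levels. -/
theorem smul_rq_eq_zero (k : ℕ) (a : Γ(Y, U)) (ha : a ∈ 𝓘.ideal ⟨U, hU⟩ ^ (k + 1))
    (z : Γ((Coh.Rpush f n).obj (lvP 𝓚 hX F k), U)) : a • z = 0 := by
  letI := overPre f hU
  haveI := isIso_psiR f hU 𝓘 𝓚 h𝓚 hX F hF k
  obtain ⟨y, rfl⟩ := (bijective_sH f n (isCoh_lvP 𝓚 hX F hF k).1 hU).2 z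
  have hk : Formal.smulMod Γ(Y, U) ((lvP 𝓚 hX F k).restrict (f ⁻¹ᵁ U).ι) a = 0 :=
    FormalH7.killedBy_of_epi (psiR f hU 𝓘 𝓚 h𝓚 hX F hF k)
      (FormalH7.killedBy_modPow (𝓘.ideal ⟨U, hU⟩) (k + 1) (resPre f F U)) a ha
  refine (sH_smul f hU n _ a y).symm.trans ((congrArg (sH f U n (lvP 𝓚 hX F k)) ?_).trans (map_zero _))
  refine (congrArg (fun q => Sheaf.H.map ((SheafOfModules.toSheaf _).map q) n y) hk).trans ?_
  rw [Functor.map_zero, Sheaf.H.map_apply, Abelian.Ext.mk₀_zero, Abelian.Ext.comp_zero]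

end Groth.Agent.FormalRqH7
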